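import Mathlib
import Cfsg.Agent.H631.VZ.FFour
import Cfsg.Agent.Nodes.TypeD

/-!
# S4842, type `D₄`: `V^U ≠ 0` (helper631)

`{a, b, c}` of type `A₃` (`M a b = M b c = 3`, `M a c = 2`) in any finite Coxeter system:

* `cosA3` : the cosets of `W_{ab}` in `W_{abc}`;
* `mem_WJ_A3` : `x ∈ W_{abc}` mapping `{α_a, α_b}` into itself lies in `W_{ab}`;
* `VU_A3` : `V^U ≠ 0` if `χ` does not vanish at an elliptic element of `L_{ab}` and at one of `L_{abc}`.
-/

set_option autoImplicit false
set_option linter.unusedSectionVars false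

open Cfsg

namespace Cfsg.Agent.H631.VZ

open CoxeterSystem Cfsg.Agent.ChevalleyStructure.CoxeterGeom Cfsg.Agent.Tits.Roots Cfsg.Agent.Tits.Core
  Cfsg.Agent.Tits.Exchange Cfsg.Agent.Nodes.Reps Cfsg.Agent.Nodes.BNOf Cfsg.Agent.Nodes.StabComb
  Cfsg.Agent.Nodes.Bruhat Cfsg.Agent.Nodes.OppDec Cfsg.Agent.Nodes.LeviDec Module Cfsg.Agent.H985.VZ
  Cfsg.Agent.H631.Kaw

universe u v

section comb

variable {I W : Type*} [Fintype I] [DecidableEq I] [Group W] {M : CoxeterMatrix I}
  {cs : CoxeterSystem M W} {A : I → I → ℤ} {h : IsCartan M A}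

theorem ssq (i : I) (w : W) : cs.simple i * (cs.simple i * w) = w := by rw [← mul_assoc, ss, one_mul]

/-- the cosets of `W_{ab}` in `W_{abc}` -/
theorem cosA3 {a b c : I} (hab : M a b = 3) (hbc : M b c = 3) (hac : M a c = 2) {w : W} (hw : w ∈ WJ cs {a, b, c}) :
    ∃ k ∈ WJ cs {a, b}, w = k ∨ w = cs.simple c * k ∨ w = cs.simple b * (cs.simple c * k) ∨
      w = cs.simple a * (cs.simple b * (cs.simple c * k)) := by
  have ha : cs.simple a ∈ WJ cs {a, b} := simple_mem_WJ cs (by simp)
  have hb : cs.simple b ∈ WJ cs {a, b} := simple_mem_WJ cs (by simp)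
  have c0 := comm_of_two cs hac
  have b1 := braid_of_three cs hab
  have b2 := braid_of_three cs hbc
  obtain ⟨ω, hω, rfl⟩ := exists_word_of_mem_WJ cs hw
  clear hw
  induction ω with
  | nil => exact ⟨1, one_mem _, Or.inl (by rw [wordProd_nil])⟩
  | cons i ω ih =>
    obtain ⟨k, hk, e⟩ := ih fun j hj => hω j (by simp [hj])
    rw [wordProd_cons]
    rcases hω i (by simp) with rfl | rfl | rfl
    · rcases e with e | e | e | e
      · exact ⟨_, mul_mem ha hk, Or.inl (by rw [e])⟩
      · refine ⟨cs.simple i * k, mul_mem ha hk, Or.inr (Or.inl ?_)⟩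
        rw [e, ← mul_assoc, c0, mul_assoc]
      · exact ⟨k, hk, Or.inr (Or.inr (Or.inr (by rw [e])))⟩
      · exact ⟨k, hk, Or.inr (Or.inr (Or.inl (by rw [e, ssq])))⟩
    · rcases e with e | e | e | e
      · exact ⟨_, mul_mem hb hk, Or.inl (by rw [e])⟩
      · exact ⟨k, hk, Or.inr (Or.inr (Or.inl (by rw [e])))⟩
      · exact ⟨k, hk, Or.inr (Or.inl (by rw [e, ssq]))⟩
      · refine ⟨cs.simple a * k, mul_mem ha hk, Or.inr (Or.inr (Or.inr ?_))⟩
        calc cs.simple i * cs.wordProd ω = (cs.simple i * cs.simple a * cs.simple i) * (cs.simple c * k) := by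
              rw [e]; simp only [mul_assoc]
          _ = (cs.simple a * cs.simple i * cs.simple a) * (cs.simple c * k) := by rw [b1]
          _ = cs.simple a * (cs.simple i * ((cs.simple a * cs.simple c) * k)) := by simp only [mul_assoc]
          _ = cs.simple a * (cs.simple i * ((cs.simple c * cs.simple a) * k)) := by rw [c0]
          _ = _ := by simp only [mul_assoc]
    · rcases e with e | e | e | e
      · exact ⟨k, hk, Or.inr (Or.inl (by rw [e]))⟩
      · exact ⟨k, hk, Or.inl (by rw [e, ssq])⟩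
      · refine ⟨cs.simple b * k, mul_mem hb hk, Or.inr (Or.inr (Or.inl ?_))⟩
        calc cs.simple i * cs.wordProd ω = (cs.simple i * cs.simple b * cs.simple i) * k := by
              rw [e]; simp only [mul_assoc]
          _ = (cs.simple b * cs.simple i * cs.simple b) * k := by rw [b2]
          _ = _ := by simp only [mul_assoc]
      · refine ⟨cs.simple b * k, mul_mem hb hk, Or.inr (Or.inr (Or.inr ?_))⟩
        calc cs.simple i * cs.wordProd ω = (cs.simple i * cs.simple a) * (cs.simple b * (cs.simple i * k)) := by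
              rw [e]; simp only [mul_assoc]
          _ = (cs.simple a * cs.simple i) * (cs.simple b * (cs.simple i * k)) := by rw [c0]
          _ = cs.simple a * ((cs.simple i * cs.simple b * cs.simple i) * k) := by simp only [mul_assoc]
          _ = cs.simple a * ((cs.simple b * cs.simple i * cs.simple b) * k) := by rw [b2]
          _ = _ := by simp only [mul_assoc]

theorem cartan_of_three (h : IsCartan M A) {a b : I} (hab : M a b = 3) : A a b = -1 ∧ A b a = -1 := by
  have hne : a ≠ b := by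
    rintro rfl
    rw [M.diagonal] at hab
    omega
  rcases h.rel a b hne with h4 | h4 | h4 | h4
  · omega
  · exact h4.2
  · omega
  · omega

theorem cartan_of_two (h : IsCartan M A) {a b : I} (hab : M a b = 2) : A a b = 0 ∧ A b a = 0 := by
  have hne : a ≠ b := by
    rintro rfl
    rw [M.diagonal] at hab
    omega
  rcases h.rel a b hne with h4 | h4 | h4 | h4
  · exact h4.2
  · omega
  · omega
  · omega

/-- **(Comb)** for `A₃` -/
theorem mem_WJ_A3 {a b c : I} (hab : M a b = 3) (hbc : M b c = 3) (hac : M a c = 2) {x : W}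
    (hx : x ∈ WJ cs {a, b, c}) (e : ∀ k ∈ ({a, b} : Set I), ∃ k' ∈ ({a, b} : Set I), rep cs h x (sr k) = sr k') :
    x ∈ WJ cs {a, b} := by
  have nab : a ≠ b := by rintro rfl; rw [M.diagonal] at hab; omega
  have nbc : b ≠ c := by rintro rfl; rw [M.diagonal] at hbc; omega
  have nac : a ≠ c := by rintro rfl; rw [M.diagonal] at hac; omega
  have hc : c ∉ ({a, b} : Set I) := by
    rintro (h1 | h1)
    · exact nac h1.symm
    · exact nbc (Set.mem_singleton_iff.1 h1).symm
  obtain ⟨k, hk, hy⟩ := cosA3 hab hbc hac hx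
  have key : ∀ y : W, x = y * k → (rep cs h y (sr b)) c = 0 := by
    intro y hy
    have h1 : rep cs h k⁻¹ (sr b) ∈ RootsJ cs h {a, b} :=
      RootsJ.act (inv_mem hk) (PosJ_subset _ (sr_mem_PosJ (by simp)))
    have h2 : rep cs h k⁻¹ (sr b) = (rep cs h k⁻¹ (sr b)) a • (sr a : I → ℤ) + (rep cs h k⁻¹ (sr b)) b • (sr b : I → ℤ) := by
      funext j
      rw [Pi.add_apply, Pi.smul_apply, Pi.smul_apply, smul_eq_mul, smul_eq_mul]
      by_cases hja : j = a
      · subst hja
        rw [sr_self, sr_ne nab, mul_one, mul_zero, add_zero]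
      by_cases hjb : j = b
      · subst hjb
        rw [sr_self, sr_ne nab.symm, mul_one, mul_zero, zero_add]
      · rw [h1.2 j (by rintro (h3 | h3); exacts [hja h3, hjb h3]), sr_ne hja, sr_ne hjb, mul_zero, mul_zero, add_zero]
    have h3 : rep cs h y (sr b) = rep cs h x (rep cs h k⁻¹ (sr b)) := by
      rw [hy, rep_mul_apply, ← rep_mul_apply cs h k, mul_inv_cancel, map_one, Module.End.one_apply]
    rw [h3, h2, map_add, map_smul, map_smul, Pi.add_apply, Pi.smul_apply, Pi.smul_apply]
    obtain ⟨k1, hk1, e1⟩ := e a (by simp)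
    obtain ⟨k2, hk2, e2⟩ := e b (by simp)
    have n1 : c ≠ k1 := by
      rintro rfl
      exact hc hk1
    have n2 : c ≠ k2 := by
      rintro rfl
      exact hc hk2
    rw [e1, e2, sr_ne n1, sr_ne n2, smul_zero, smul_zero, add_zero]
  have hs : (rep cs h (cs.simple c) (sr b)) c = 1 := by
    rw [rep_simple_apply_self, pairing_sr', sr_ne nbc.symm, (cartan_of_three h hbc).2]
    norm_num
  rcases hy with hy | hy | hy | hy
  · rw [hy]; exact hk
  · exfalso
    have h1 := key (cs.simple c) hy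
    rw [hs] at h1
    omega
  · exfalso
    have h1 := key (cs.simple b * cs.simple c) (by rw [hy, mul_assoc])
    rw [rep_mul_apply, rep_simple_apply _ _ _ _ _ nbc.symm, hs] at h1
    omega
  · exfalso
    have h1 := key (cs.simple a * (cs.simple b * cs.simple c)) (by rw [hy]; simp only [mul_assoc])
    rw [rep_mul_apply, rep_simple_apply _ _ _ _ _ nac.symm, rep_mul_apply, rep_simple_apply _ _ _ _ _ nbc.symm, hs] at h1
    omega

end comb

section main

variable {I W : Type*} {Y : Type u} [Fintype I] [DecidableEq I] [Group W] [Finite W] [Group Y] [Finite Y]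
  {M : CoxeterMatrix I} {cs : CoxeterSystem M W} {A : I → I → ℤ} {h : IsCartan M A} {p : ℕ}
  {T : Subgroup Y} {n : I → Y} {X : (I → ℤ) → Subgroup Y}
  {V : Type v} [AddCommGroup V] [Module ℂ V] {ρ : Representation ℂ Y V}

theorem VU_ne_bot_of_empty {S : Submodule ℂ V} (h1 : S ⊓ fx ρ (VJ cs h X (∅ : Set I)) ≠ ⊥) : VU cs h X ρ ≠ ⊥ := by
  intro h2
  apply h1
  rw [eq_bot_iff, ← h2]
  refine le_trans inf_le_right ?_
  rw [VJ_empty]
  exact le_rfl

/-- **`V^U ≠ 0`** from an elliptic element of `L_{ab}` and one of `L_{abc}`, `{a, b, c}` of type `A₃` -/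
theorem VU_A3 [FiniteDimensional ℂ V] (R : RGD cs h p T n X) (hG : GG cs h T X = ⊤) (hρ : ρ.IsIrreducible)
    {a b c : I} (hab : M a b = 3) (hbc : M b c = 3) (hac : M a c = 2)
    {t t' : Y} (ht : Ell cs h T X {a, b} t) (hχ : ρ.character t ≠ 0)
    (ht' : Ell cs h T X {a, b, c} t') (hχ' : ρ.character t' ≠ 0) : VU cs h X ρ ≠ ⊥ := by
  classical
  have nab : a ≠ b := by rintro rfl; rw [M.diagonal] at hab; omega
  have nbc : b ≠ c := by rintro rfl; rw [M.diagonal] at hbc; omega
  have nac : a ≠ c := by rintro rfl; rw [M.diagonal] at hac; omega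
  have hba : M b a = 3 := by rw [M.symmetric]; exact hab
  obtain ⟨S, hS, hirr, K₀, hK₀, h0, hmin, x, hx, hxK, hxn⟩ := ell_support R ht hχ
  -- `K₀` is not a single node
  have one : ∀ i j : I, (i = a ∧ j = b) ∨ (i = b ∧ j = a) → i ∈ K₀ → j ∉ K₀ → False := by
    intro i j hij hi hj
    have hM : M i j = 3 := by
      rcases hij with ⟨rfl, rfl⟩ | ⟨rfl, rfl⟩
      · exact hab
      · exact hba
    have hJ : ({a, b} : Set I) = insert i (insert j (∅ : Set I)) := by
      rcases hij with ⟨rfl, rfl⟩ | ⟨rfl, rfl⟩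
      · simp
      · rw [Set.pair_comm]; simp
    have hne : j ≠ i := by
      rintro rfl
      exact hj hi
    have h2 : K₀ ⊆ insert i (∅ : Set I) := by
      intro k hk
      have h3 := hK₀ hk
      rw [hJ] at h3
      rcases h3 with h3 | h3 | h3
      · exact Or.inl h3
      · exact absurd (h3 ▸ hk) hj
      · exact absurd h3 (Set.notMem_empty k)
    obtain ⟨k', hk', e1⟩ := hxK i hi
    have h4 : rep cs h x (sr i) = sr i := by
      rcases h2 hk' with h3 | h3
      · rw [e1, h3]
      · exact absurd h3 (Set.notMem_empty _)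
    rw [hJ] at hx
    have h5 : x ∈ WJ cs (insert i (∅ : Set I)) :=
      mem_WJ_of_rep_eq hM (Set.notMem_empty _) (Set.notMem_empty _) (fun k hk => absurd hk (Set.notMem_empty _))
        (fun k hk => absurd hk (Set.notMem_empty _)) hx h4
    refine hxn _ h2 ⟨?_, fun h6 => ?_⟩ h5
    · rw [hJ]
      intro k hk
      rcases hk with hk | hk
      · exact Or.inl hk
      · exact absurd hk (Set.notMem_empty _)
    · have h7 : j ∈ insert i (∅ : Set I) := h6 (by rw [hJ]; exact Or.inr (Or.inl rfl))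
      rcases h7 with h7 | h7
      · exact hne h7
      · exact absurd h7 (Set.notMem_empty _)
  by_cases ha : a ∈ K₀
  swap
  · have hb : b ∉ K₀ := fun hb => one b a (Or.inr ⟨rfl, rfl⟩) hb ha
    have hK : K₀ = ∅ := by
      rw [Set.eq_empty_iff_forall_notMem]
      intro k hk
      rcases hK₀ hk with h3 | h3
      · exact ha (h3 ▸ hk)
      · exact hb (Set.mem_singleton_iff.1 h3 ▸ hk)
    rw [hK] at h0
    exact VU_ne_bot_of_empty h0
  by_cases hb : b ∈ K₀
  swap
  · exact (one a b (Or.inl ⟨rfl, rfl⟩) ha hb).elim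
  have hK : K₀ = {a, b} := by
    refine subset_antisymm hK₀ ?_
    rintro k (h3 | h3)
    · rw [h3]; exact ha
    · rw [Set.mem_singleton_iff.1 h3]; exact hb
  exfalso
  -- the second element
  obtain ⟨S', hS', hirr', K₁, hK₁, h0', hmin', x', hx', hxK', hxn'⟩ := ell_support R ht' hχ'
  obtain ⟨w, hw1, hw2⟩ := assoc' R hG hρ hirr hK₀ h0 hmin hirr' hK₁ h0' hmin'
  obtain ⟨i, hi, ei⟩ := hw1 a ha
  obtain ⟨j, hj, ej⟩ := hw1 b hb
  have hK1 : K₁ = {i, j} := by
    refine subset_antisymm ?_ ?_
    · intro k hk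
      obtain ⟨k0, hk0, e0⟩ := hw2 k hk
      rw [hK] at hk0
      rcases hk0 with h3 | h3
      · rw [h3, ei] at e0
        exact Or.inl (sr_inj e0).symm
      · rw [Set.mem_singleton_iff.1 h3, ej] at e0
        exact Or.inr (sr_inj e0).symm
    · rintro k (h3 | h3)
      · rw [h3]; exact hi
      · rw [Set.mem_singleton_iff.1 h3]; exact hj
  -- `i`, `j` are joined
  have hij : A i j ≠ 0 := by
    let _ : Fintype W := Fintype.ofFinite W
    intro h1
    have h2 := two_form cs h i (sr j)
    rw [pairing_sr', h1, ← ei, ← ej, form_rep cs h w (sr b) (sr a), form_comm cs h (sr b) (sr a)] at h2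
    have h3 := two_form cs h a (sr b)
    rw [pairing_sr', (cartan_of_three h hab).1, form_comm cs h (sr b) (sr a)] at h3
    have h4 := form_pos cs h (sr_ne_zero (I := I) a)
    linarith
  have nij : i ≠ j := by
    rintro rfl
    have h3 := rep_injective_apply cs h w (ei.trans ej.symm)
    exact nab (sr_inj h3)
  -- so `K₁ = {a, b}` or `{b, c}`
  have hcase : K₁ = {a, b} ∨ K₁ = {c, b} := by
    rw [hK1]
    have hAac := cartan_of_two h hac
    rcases hK₁ hi with r | r | r <;> rcases hK₁ hj with r' | r' | r' <;>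
      (try rw [Set.mem_singleton_iff] at r) <;> (try rw [Set.mem_singleton_iff] at r')
    · exact absurd (r.trans r'.symm) nij
    · exact Or.inl (by rw [r, r'])
    · rw [r, r'] at hij; exact absurd hAac.1 hij
    · exact Or.inl (by rw [r, r', Set.pair_comm])
    · exact absurd (r.trans r'.symm) nij
    · exact Or.inr (by rw [r, r', Set.pair_comm])
    · rw [r, r'] at hij; exact absurd hAac.2 hij
    · exact Or.inr (by rw [r, r'])
    · exact absurd (r.trans r'.symm) nij
  rcases hcase with hc | hc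
  · rw [hc] at hxK' hxn'
    refine hxn' {a, b} subset_rfl ⟨?_, fun h6 => ?_⟩ (mem_WJ_A3 hab hbc hac hx' hxK')
    · rintro k (h3 | h3)
      · exact Or.inl h3
      · exact Or.inr (Or.inl h3)
    · rcases h6 (show c ∈ ({a, b, c} : Set I) from Or.inr (Or.inr rfl)) with h7 | h7
      · exact nac h7.symm
      · exact nbc (Set.mem_singleton_iff.1 h7).symm
  · have hJ : ({a, b, c} : Set I) = {c, b, a} := by
      ext k
      simp only [Set.mem_insert_iff, Set.mem_singleton_iff]
      tauto
    rw [hc] at hxK' hxn'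
    rw [hJ] at hx' hxn'
    refine hxn' {c, b} subset_rfl ⟨?_, fun h6 => ?_⟩ (mem_WJ_A3 (by rw [M.symmetric]; exact hbc)
      (by rw [M.symmetric]; exact hab) (by rw [M.symmetric]; exact hac) hx' hxK')
    · rintro k (h3 | h3)
      · exact Or.inl h3
      · exact Or.inr (Or.inl h3)
    · rcases h6 (show a ∈ ({c, b, a} : Set I) from Or.inr (Or.inr rfl)) with h7 | h7
      · exact nac h7
      · exact nab (Set.mem_singleton_iff.1 h7)

end main

section D4

variable {W : Type*} {Y : Type u} [Group W] [Finite W] [Group Y] [Finite Y]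
  {cs : CoxeterSystem (Cfsg.Agent.Nodes.TypeD.M 2) W} {A : Fin 4 → Fin 4 → ℤ} {h : IsCartan (Cfsg.Agent.Nodes.TypeD.M 2) A} {p : ℕ}
  {T : Subgroup Y} {n : Fin 4 → Y} {X : (Fin 4 → ℤ) → Subgroup Y}
  {V : Type v} [AddCommGroup V] [Module ℂ V] {ρ : Representation ℂ Y V}

/-- **`V^U ≠ 0` in type `D₄`** (nodes `0 - 1`, `1 - 2`, `1 - 3`) -/
theorem VU_D4 [FiniteDimensional ℂ V] (R : RGD cs h p T n X) (hG : GG cs h T X = ⊤) (hρ : ρ.IsIrreducible)
    {t t' : Y} (ht : Ell cs h T X {0, 1} t) (hχ : ρ.character t ≠ 0)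
    (ht' : Ell cs h T X {0, 1, 2} t') (hχ' : ρ.character t' ≠ 0) : VU cs h X ρ ≠ ⊥ :=
  VU_A3 R hG hρ (a := 0) (b := 1) (c := 2) (by decide) (by decide) (by decide) ht hχ ht' hχ'

end D4

end Cfsg.Agent.H631.VZ
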