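import Mathlib
import Cfsg.Agent.H631.VZ.DFour
import Cfsg.Agent.H631.VZ.Dual
import Cfsg.Agent.H643.OZ.D4
import Cfsg.Agent.H650.OZ.TChar

/-!
# S4842, type `D₄`: `V^U = V^B ≠ 0` (helper631)

* `dic_of_tco` : the dictionary of the `T`-characters from coordinates of the torus (helper650's `TCo`);
* `VB_D4_of` : `V^U = V^B ≠ 0` from elliptic elements of `L_{01}`, `L_{012}`, `L_{013}`, any `RGD` of type `TypeD.M 2` with a
  dictionary; `VB_D4` : the same with `TCo`.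
-/

set_option autoImplicit false
set_option linter.unusedSectionVars false

open Cfsg

namespace Cfsg.Agent.H631.VZ

open CoxeterSystem Cfsg.Agent.ChevalleyStructure.CoxeterGeom Cfsg.Agent.Tits.Roots Cfsg.Agent.Tits.Core
  Cfsg.Agent.Tits.Exchange Cfsg.Agent.Nodes.Reps Cfsg.Agent.Nodes.BNOf Cfsg.Agent.Nodes.StabComb
  Cfsg.Agent.Nodes.Bruhat Cfsg.Agent.Nodes.OppDec Cfsg.Agent.Nodes.LeviDec Module Cfsg.Agent.H985.VZ
  Cfsg.Agent.H631.Kaw Cfsg.Agent.Nodes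

universe u v

section

variable {I W : Type*} {Y : Type u} [Fintype I] [DecidableEq I] [Group W] [Group Y] {M : CoxeterMatrix I}
  {cs : CoxeterSystem M W} {A : I → I → ℤ} {T : Subgroup Y} {n : I → Y} {hN : NSys M T n}
  {E : Type*} [CommGroup E] {hh : I → E →* T}

/-- the dictionary of the `T`-characters from coordinates of the torus -/
theorem dic_of_tco (h : IsCartan M A) (C : Cfsg.Agent.H650.OZ.TCo A T n hh) :
    Dic hN cs h (fun l i => l.comp (hh i) : (T →* ℂˣ) → I → (E →* ℂˣ)) where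
  simple i l l' hm := by
    have h1 := Cfsg.Agent.H650.OZ.co_mv C h hm
    rw [dact_simple]
    funext j
    have h2 := congrFun h1 j
    have h3 : l'.comp (hh j) = l.comp (hh j) / (l.comp (hh i)) ^ (A j i) := h2
    change l'.comp (hh j) = l.comp (hh j) * (l.comp (hh i)) ^ (-A j i)
    rw [h3]
    refine MonoidHom.ext fun x => ?_
    have h4 : ∀ m : ℤ, ((l.comp (hh i)) ^ m) x = l (hh i x) ^ m := fun m =>
      map_zpow (MonoidHom.eval x : (E →* ℂˣ) →* ℂˣ) (l.comp (hh i)) m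
    rw [MonoidHom.div_apply, MonoidHom.mul_apply]
    refine Eq.trans (congrArg _ (h4 _)) (Eq.trans ?_ (congrArg _ (h4 _)).symm)
    rw [zpow_neg, div_eq_mul_inv]
  one l hl := Cfsg.Agent.H650.OZ.eq_one_of_co C fun i => by
    have h1 := congrFun hl i
    change Additive.ofMul (l.comp (hh i)) = 0
    rw [show l.comp (hh i) = 1 from h1]
    rfl

end

section

variable {W : Type*} {Y : Type u} [Group W] [Finite W] [Group Y] [Finite Y]
  {cs : CoxeterSystem (TypeD.M 2) W} {p : ℕ} {T : Subgroup Y} {n : Fin 4 → Y} {X : (Fin 4 → ℤ) → Subgroup Y}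
  {B : Type*} [CommGroup B] {f : (T →* ℂˣ) → Fin 4 → B}
  {V : Type v} [AddCommGroup V] [Module ℂ V] [FiniteDimensional ℂ V] {ρ : Representation ℂ Y V}

/-- **`V^U = V^B ≠ 0` in type `D₄`** -/
theorem VB_D4_of [Fact p.Prime] (R : RGD cs (TypeD.isCartan 2) p T n X) (D : Dic R.nsys cs (TypeD.isCartan 2) f)
    (hG : GG cs (TypeD.isCartan 2) T X = ⊤) (hT : ∀ s ∈ T, ∀ t ∈ T, s * t = t * s) (hρ : ρ.IsIrreducible)
    {t t' t'' : Y} (ht : Ell cs (TypeD.isCartan 2) T X {0, 1} t) (hχ : ρ.character t ≠ 0)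
    (ht' : Ell cs (TypeD.isCartan 2) T X {0, 1, 2} t') (hχ' : ρ.character t' ≠ 0)
    (ht'' : Ell cs (TypeD.isCartan 2) T X {0, 1, 3} t'') (hχ'' : ρ.character t'' ≠ 0) :
    VU cs (TypeD.isCartan 2) X ρ ≠ ⊥ ∧ VU cs (TypeD.isCartan 2) X ρ = fx ρ (RGD.B cs (TypeD.isCartan 2) T X) ∧
      ∀ l : T →* ℂˣ, Vl cs (TypeD.isCartan 2) T X ρ l ≠ ⊥ → l = 1 := by
  have h0 : VU cs (TypeD.isCartan 2) X ρ ≠ ⊥ := VU_D4 R hG hρ ht hχ ht' hχ'
  let _ : MulAction W (Fin 4 → B) := dAction cs (TypeD.isCartan 2)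
  have hs : ∀ (i : Fin 4) (b : Fin 4 → B), cs.simple i • b = fun j => b j * (b i) ^ (-(TypeD.A 2 i j)) := by
    intro i b
    change dact cs (TypeD.isCartan 2) (cs.simple i) b = _
    rw [dact_simple]
    funext j
    have hsym : TypeD.A 2 j i = TypeD.A 2 i j := by
      rw [Cfsg.Agent.H643.OZ.D4.ca_eq, Cfsg.Agent.H643.OZ.D4.ca_eq]
      revert i j
      decide
    rw [hsym]
  obtain ⟨l, hl, hE⟩ := D.exists_El R hG hT hρ h0 ht hχ
  obtain ⟨l', hl', hE'⟩ := D.exists_El R hG hT hρ h0 ht' hχ'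
  obtain ⟨l'', hl'', hE''⟩ := D.exists_El R hG hT hρ h0 ht'' hχ''
  obtain ⟨w, hw⟩ := exists_mv R hG hρ hl hl'
  obtain ⟨y, hy⟩ := exists_mv R hG hρ hl hl''
  rw [D.mv hw] at hE'
  rw [D.mv hy] at hE''
  obtain ⟨b0, b1⟩ := Cfsg.Agent.H643.OZ.D4.E0 cs hs (b := f l) hE
  have b2 : f l 2 = 1 := Cfsg.Agent.H643.OZ.D4.E1 cs hs b0 b1 w hE'
  have b3 : f l 3 = 1 := Cfsg.Agent.H643.OZ.D4.E2 cs hs b0 b1 y hE''
  have hl1 : l = 1 := D.one l (by
    funext i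
    fin_cases i
    · exact b0
    · exact b1
    · exact b2
    · exact b3)
  rw [hl1] at hl
  have hall : ∀ l : T →* ℂˣ, Vl cs (TypeD.isCartan 2) T X ρ l ≠ ⊥ → l = 1 := by
    intro l₁ hl₁
    obtain ⟨z, hz⟩ := exists_mv R hG hρ hl hl₁
    refine D.one l₁ ?_
    rw [D.mv hz]
    have h1 : f 1 = 1 := by
      rw [← hl1]
      funext i
      fin_cases i
      · exact b0
      · exact b1
      · exact b2
      · exact b3
    rw [h1]
    funext j
    change pr (1 : Fin 4 → B) _ = 1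
    unfold pr
    exact Finset.prod_eq_one fun k _ => by rw [Pi.one_apply, one_zpow]
  exact ⟨h0, (Cfsg.Agent.H650.OZ.VU_eq_of_forall R hT hall).trans (Cfsg.Agent.H650.OZ.Vl_one R), hall⟩

/-- the same with coordinates of the torus -/
theorem VB_D4 [Fact p.Prime] {E : Type*} [CommGroup E] {hh : Fin 4 → E →* T}
    (C : Cfsg.Agent.H650.OZ.TCo (TypeD.A 2) T n hh) (R : RGD cs (TypeD.isCartan 2) p T n X)
    (hG : GG cs (TypeD.isCartan 2) T X = ⊤) (hT : ∀ s ∈ T, ∀ t ∈ T, s * t = t * s) (hρ : ρ.IsIrreducible)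
    {t t' t'' : Y} (ht : Ell cs (TypeD.isCartan 2) T X {0, 1} t) (hχ : ρ.character t ≠ 0)
    (ht' : Ell cs (TypeD.isCartan 2) T X {0, 1, 2} t') (hχ' : ρ.character t' ≠ 0)
    (ht'' : Ell cs (TypeD.isCartan 2) T X {0, 1, 3} t'') (hχ'' : ρ.character t'' ≠ 0) :
    VU cs (TypeD.isCartan 2) X ρ ≠ ⊥ ∧ VU cs (TypeD.isCartan 2) X ρ = fx ρ (RGD.B cs (TypeD.isCartan 2) T X) ∧
      ∀ l : T →* ℂˣ, Vl cs (TypeD.isCartan 2) T X ρ l ≠ ⊥ → l = 1 :=
  VB_D4_of R (dic_of_tco (hN := R.nsys) (TypeD.isCartan 2) C) hG hT hρ ht hχ ht' hχ' ht'' hχ''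

end

end Cfsg.Agent.H631.VZ
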