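import Mathlib
import Cfsg.Agent.H985.VZ.El

/-!
# S4842: equivariant idempotents of a subgroup (helper631)

* `exists_irr_proj` : an equivariant idempotent with nonzero trace at `t` contains one with irreducible image;
* `trace_eq_zero` : the trace of `t` vanishes on an irreducible `M` if `p ρ(t^l) p = 0` on `M` for all `l`, where `p`
  is an idempotent which is nonzero on `M` (for instance if `M` is induced from a subgroup containing no conjugate of `t`).
-/

set_option autoImplicit false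
set_option linter.unusedSectionVars false

open Cfsg

namespace Cfsg.Agent.H631.VZ

open Module Cfsg.Agent.H985.VZ

universe u v

variable {Y : Type u} [Group Y] {V : Type v} [AddCommGroup V] [Module ℂ V]

/-- `N` is stable under `L` -/
def Stb (ρ : Representation ℂ Y V) (L : Subgroup Y) (N : Submodule ℂ V) : Prop := ∀ l ∈ L, ∀ v ∈ N, ρ l v ∈ N

/-- idempotents commuting with `L` -/
structure EI (ρ : Representation ℂ Y V) (L : Subgroup Y) (P : Module.End ℂ V) : Prop where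
  idem : P * P = P
  comm : ∀ l ∈ L, P * ρ l = ρ l * P

/-- nonzero, stable and without proper stable subspace -/
structure Irr (ρ : Representation ℂ Y V) (L : Subgroup Y) (M : Submodule ℂ V) : Prop where
  stb : Stb ρ L M
  ne : M ≠ ⊥
  min : ∀ N : Submodule ℂ V, N ≤ M → Stb ρ L N → N ≠ ⊥ → N = M

variable {ρ : Representation ℂ Y V} {L : Subgroup Y}

theorem rho_mul_inv (g : Y) : ρ g * ρ g⁻¹ = 1 := by rw [← map_mul, mul_inv_cancel, map_one]

theorem rho_inv_mul (g : Y) : ρ g⁻¹ * ρ g = 1 := by rw [← map_mul, inv_mul_cancel, map_one]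

theorem EI.apply_of_mem {P : Module.End ℂ V} (hP : EI ρ L P) {v : V} (hv : v ∈ LinearMap.range P) : P v = v := by
  obtain ⟨w, rfl⟩ := hv
  exact LinearMap.congr_fun hP.idem w

theorem EI.stb {P : Module.End ℂ V} (hP : EI ρ L P) : Stb ρ L (LinearMap.range P) := by
  rintro l hl _ ⟨w, rfl⟩
  exact ⟨ρ l w, LinearMap.congr_fun (hP.comm l hl) w⟩

/-- irreducible submodules exist -/
theorem exists_irr [FiniteDimensional ℂ V] {N : Submodule ℂ V} (hN : Stb ρ L N) (h0 : N ≠ ⊥) :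
    ∃ M ≤ N, Irr ρ L M := by
  classical
  have hex : ∃ n, ∃ M : Submodule ℂ V, M ≤ N ∧ Stb ρ L M ∧ M ≠ ⊥ ∧ finrank ℂ M = n := ⟨_, N, le_rfl, hN, h0, rfl⟩
  obtain ⟨M, hM, hs, h1, h2⟩ := Nat.find_spec hex
  refine ⟨M, hM, hs, h1, fun N' hN' hs' h0' => ?_⟩
  refine Submodule.eq_of_le_of_finrank_le hN' ?_
  rw [h2]
  exact Nat.find_min' hex ⟨N', hN'.trans hM, hs', h0', rfl⟩

/-- Maschke -/
theorem exists_EI [Finite Y] {N : Submodule ℂ V} (hN : Stb ρ L N) : ∃ P, EI ρ L P ∧ LinearMap.range P = N := by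
  classical
  let _ : Fintype L := Fintype.ofFinite L
  obtain ⟨C, hC⟩ := N.exists_isCompl
  let π : Module.End ℂ V := N.subtype ∘ₗ N.projectionOnto C hC
  have hπ1 : ∀ v ∈ N, π v = v := by
    intro v hv
    change ((N.projectionOnto C hC v : N) : V) = v
    have := Submodule.projectionOnto_apply_left hC ⟨v, hv⟩
    rw [this]
  have hπ2 : ∀ v, π v ∈ N := fun v => (N.projectionOnto C hC v).2
  let P : Module.End ℂ V := (Nat.card L : ℂ)⁻¹ • ∑ l : L, ρ l * π * ρ (l : Y)⁻¹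
  have hPa : ∀ v, P v = (Nat.card L : ℂ)⁻¹ • ∑ l : L, ρ l (π (ρ (l : Y)⁻¹ v)) := by
    intro v
    change ((Nat.card L : ℂ)⁻¹ • ∑ l : L, ρ l * π * ρ (l : Y)⁻¹) v = _
    rw [LinearMap.smul_apply, LinearMap.sum_apply]
    rfl
  have hP1 : ∀ v ∈ N, P v = v := by
    intro v hv
    have h1 : ∀ l : L, ρ l (π (ρ (l : Y)⁻¹ v)) = v := by
      intro l
      rw [hπ1 _ (hN _ (L.inv_mem l.2) _ hv), ← Module.End.mul_apply, rho_mul_inv, Module.End.one_apply]
    rw [hPa, Finset.sum_congr rfl fun l _ => h1 l, Finset.sum_const, Finset.card_univ, ← Nat.card_eq_fintype_card,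
      ← Nat.cast_smul_eq_nsmul ℂ, smul_smul, inv_mul_cancel₀ (card_ne L), one_smul]
  have hP2 : ∀ v, P v ∈ N := by
    intro v
    rw [hPa]
    exact N.smul_mem _ (N.sum_mem fun l _ => hN _ l.2 _ (hπ2 _))
  refine ⟨P, ⟨LinearMap.ext fun v => hP1 _ (hP2 v), fun k hk => ?_⟩, le_antisymm ?_ fun v hv => ⟨v, hP1 v hv⟩⟩
  · change ((Nat.card L : ℂ)⁻¹ • ∑ l : L, ρ l * π * ρ (l : Y)⁻¹) * ρ k =
      ρ k * ((Nat.card L : ℂ)⁻¹ • ∑ l : L, ρ l * π * ρ (l : Y)⁻¹)
    rw [smul_mul_assoc, mul_smul_comm, Finset.sum_mul, Finset.mul_sum]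
    congr 1
    refine (Fintype.sum_equiv (Equiv.mulLeft (⟨k, hk⟩ : L)) _ _ fun l => ?_).symm
    change ρ k * (ρ l * π * ρ (l : Y)⁻¹) = ρ (k * (l : Y)) * π * ρ (k * (l : Y))⁻¹ * ρ k
    have h1 : ρ (k * (l : Y))⁻¹ * ρ k = ρ (l : Y)⁻¹ := by rw [← map_mul]; congr 1; group
    rw [mul_assoc (ρ (k * (l : Y)) * π), h1, map_mul]
    simp only [mul_assoc]
  · rintro _ ⟨v, rfl⟩
    exact hP2 v

theorem trace_idem [FiniteDimensional ℂ V] {P : Module.End ℂ V} (hP : P * P = P) (h0 : P ≠ 0) :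
    LinearMap.trace ℂ V P ≠ 0 := by
  have h : LinearMap.IsProj (LinearMap.range P) P := by
    refine ⟨fun v => ⟨v, rfl⟩, ?_⟩
    rintro _ ⟨w, rfl⟩
    exact LinearMap.congr_fun hP w
  rw [h.trace]
  intro h1
  have h2 : finrank ℂ (LinearMap.range P) = 0 := by exact_mod_cast h1
  exact h0 (LinearMap.range_eq_bot.1 (Submodule.finrank_eq_zero.1 h2))

/-- an irreducible constituent with nonzero trace -/
theorem exists_irr_proj [Finite Y] [FiniteDimensional ℂ V] {t : Y} {P : Module.End ℂ V} (hP : EI ρ L P)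
    (ht : LinearMap.trace ℂ V (ρ t * P) ≠ 0) : ∃ Q, EI ρ L Q ∧ Q * P = Q ∧ P * Q = Q ∧ Irr ρ L (LinearMap.range Q) ∧
      LinearMap.trace ℂ V (ρ t * Q) ≠ 0 := by
  induction hn : finrank ℂ (LinearMap.range P) using Nat.strong_induction_on generalizing P with
  | _ n ih =>
  have h0 : LinearMap.range P ≠ ⊥ := by
    intro h1
    rw [LinearMap.range_eq_bot.1 h1, mul_zero, map_zero] at ht
    exact ht rfl
  obtain ⟨M, hM, hirr⟩ := exists_irr hP.stb h0
  obtain ⟨P', hP', e⟩ := exists_EI hirr.stb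
  have hPM : ∀ v ∈ M, P v = v := fun v hv => hP.apply_of_mem (hM hv)
  have hP'M : ∀ v ∈ M, P' v = v := fun v hv => hP'.apply_of_mem (by rw [e]; exact hv)
  have hP'm : ∀ v, P' v ∈ M := fun v => by rw [← e]; exact ⟨v, rfl⟩
  have h1 : P * P' = P' := LinearMap.ext fun v => hPM _ (hP'm v)
  -- `P₁ = P' P`
  have hcomm : ∀ l ∈ L, (P' * P) * ρ l = ρ l * (P' * P) := by
    intro l hl
    rw [mul_assoc, hP.comm l hl, ← mul_assoc, hP'.comm l hl, mul_assoc]
  have h2 : (P' * P) * (P' * P) = P' * P := by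
    rw [mul_assoc, ← mul_assoc P P' P, h1, ← mul_assoc, hP'.idem]
  have h3 : (P' * P) * P = P' * P := by rw [mul_assoc, hP.idem]
  have h4 : P * (P' * P) = P' * P := by rw [← mul_assoc, h1]
  have hr : LinearMap.range (P' * P) = M := by
    apply le_antisymm
    · rintro _ ⟨v, rfl⟩
      exact hP'm _
    · intro v hv
      refine ⟨v, ?_⟩
      rw [Module.End.mul_apply, hPM v hv, hP'M v hv]
  by_cases h5 : LinearMap.trace ℂ V (ρ t * (P' * P)) = 0
  · have h6 : LinearMap.trace ℂ V (ρ t * (P - P' * P)) ≠ 0 := by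
      rw [mul_sub, map_sub, h5, sub_zero]
      exact ht
    have h7 : EI ρ L (P - P' * P) := by
      refine ⟨?_, fun l hl => ?_⟩
      · rw [sub_mul, mul_sub, mul_sub, h2, h3, h4, hP.idem, sub_self, sub_zero]
      · rw [sub_mul, mul_sub, hcomm l hl, hP.comm l hl]
    have h8 : LinearMap.range (P - P' * P) < LinearMap.range P := by
      refine lt_of_le_of_ne ?_ ?_
      · rintro _ ⟨v, rfl⟩
        refine ⟨(P - P' * P) v, ?_⟩
        rw [← Module.End.mul_apply, mul_sub, h4, hP.idem]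
      · intro h9
        apply hirr.ne
        rw [Submodule.eq_bot_iff]
        intro v hv
        have h10 : v ∈ LinearMap.range (P - P' * P) := by rw [h9]; exact hM hv
        have h11 := h7.apply_of_mem h10
        rw [LinearMap.sub_apply, Module.End.mul_apply, hPM v hv, hP'M v hv, sub_self] at h11
        exact h11.symm
    obtain ⟨Q, hQ, hQ1, hQ2, hQ3, hQ4⟩ := ih _ (by rw [← hn]; exact Submodule.finrank_lt_finrank_of_lt h8) h7 h6 rfl
    refine ⟨Q, hQ, ?_, ?_, hQ3, hQ4⟩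
    · rw [← hQ1, mul_assoc, sub_mul, h3, hP.idem]
    · rw [← hQ2, ← mul_assoc, mul_sub, h4, hP.idem]
  · exact ⟨P' * P, ⟨h2, hcomm⟩, h3, h4, by rw [hr]; exact hirr, h5⟩

/-- **vanishing of the trace** -/
theorem trace_eq_zero [Finite Y] [FiniteDimensional ℂ V] {P p : Module.End ℂ V} (hP : EI ρ L P)
    (hM : Irr ρ L (LinearMap.range P)) (hp : p * p = p) (hc : p * P = P * p) (h0 : p * P ≠ 0) {t : Y}
    (hz : ∀ l ∈ L, p * ρ (l⁻¹ * t * l) * (p * P) = 0) : LinearMap.trace ℂ V (ρ t * P) = 0 := by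
  classical
  let _ : Fintype L := Fintype.ofFinite L
  let F : Module.End ℂ V := ∑ l : L, ρ l * p * ρ (l : Y)⁻¹ * P
  have hFk : ∀ k ∈ L, F * ρ k = ρ k * F := by
    intro k hk
    change (∑ l : L, ρ l * p * ρ (l : Y)⁻¹ * P) * ρ k = ρ k * ∑ l : L, ρ l * p * ρ (l : Y)⁻¹ * P
    rw [Finset.sum_mul, Finset.mul_sum]
    refine (Fintype.sum_equiv (Equiv.mulLeft (⟨k, hk⟩ : L)) _ _ fun l => ?_).symm
    change ρ k * (ρ l * p * ρ (l : Y)⁻¹ * P) = ρ (k * (l : Y)) * p * ρ (k * (l : Y))⁻¹ * P * ρ k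
    have h1 : ρ (k * (l : Y))⁻¹ * ρ k = ρ (l : Y)⁻¹ := by rw [← map_mul]; congr 1; group
    rw [mul_assoc _ P, hP.comm k hk, ← mul_assoc _ (ρ k) P, mul_assoc (ρ (k * (l : Y)) * p), h1, map_mul]
    simp only [mul_assoc]
  have hPF : P * F = F := by
    change P * ∑ l : L, ρ l * p * ρ (l : Y)⁻¹ * P = ∑ l : L, ρ l * p * ρ (l : Y)⁻¹ * P
    rw [Finset.mul_sum]
    refine Finset.sum_congr rfl fun l _ => ?_
    rw [mul_assoc (ρ (l : Y) * p), ← hP.comm _ (L.inv_mem l.2), ← mul_assoc (ρ (l : Y) * p), mul_assoc (ρ (l : Y)) p P, hc,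
      ← mul_assoc (ρ (l : Y)), ← hP.comm _ l.2]
    simp only [← mul_assoc]
    rw [hP.idem]
  have hFP : F * P = F := by
    change (∑ l : L, ρ l * p * ρ (l : Y)⁻¹ * P) * P = ∑ l : L, ρ l * p * ρ (l : Y)⁻¹ * P
    rw [Finset.sum_mul]
    refine Finset.sum_congr rfl fun l _ => ?_
    rw [mul_assoc, hP.idem]
  have hFr : ∀ v, F v ∈ LinearMap.range P := fun v => ⟨F v, LinearMap.congr_fun hPF v⟩
  -- an eigenvalue
  have hnt : Nontrivial (LinearMap.range P) := Submodule.nontrivial_iff_ne_bot.2 hM.ne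
  obtain ⟨c, hcv⟩ := Module.End.exists_eigenvalue (K := ℂ) (F.restrict (p := LinearMap.range P) (q := LinearMap.range P)
    fun v _ => hFr v)
  obtain ⟨w, hw⟩ := hcv.exists_hasEigenvector
  have hw1 : F w = c • (w : V) := by
    have := congrArg (fun x : LinearMap.range P => (x : V)) hw.apply_eq_smul
    exact this
  have hw0 : (w : V) ≠ 0 := fun h1 => hw.2 (Subtype.ext h1)
  let N : Submodule ℂ V := LinearMap.range P ⊓ LinearMap.ker (F - c • (1 : Module.End ℂ V))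
  have hmem : ∀ v, v ∈ N ↔ v ∈ LinearMap.range P ∧ F v = c • v := by
    intro v
    rw [Submodule.mem_inf, LinearMap.mem_ker, LinearMap.sub_apply, LinearMap.smul_apply, Module.End.one_apply,
      sub_eq_zero]
  have hN : N = LinearMap.range P := by
    refine hM.min N inf_le_left ?_ ?_
    · intro l hl v hv
      rw [hmem] at hv ⊢
      refine ⟨hM.stb l hl v hv.1, ?_⟩
      rw [← Module.End.mul_apply, hFk l hl, Module.End.mul_apply, hv.2, map_smul]
    · intro h1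
      have h2 : (w : V) ∈ N := (hmem _).2 ⟨w.2, hw1⟩
      rw [h1, Submodule.mem_bot] at h2
      exact hw0 h2
  have hF : F = c • P := by
    ext v
    have h1 : P v ∈ N := by rw [hN]; exact ⟨v, rfl⟩
    rw [← hFP, Module.End.mul_apply, ((hmem _).1 h1).2, LinearMap.smul_apply]
  have htr : LinearMap.trace ℂ V F = (Nat.card L : ℂ) * LinearMap.trace ℂ V (p * P) := by
    change LinearMap.trace ℂ V (∑ l : L, ρ l * p * ρ (l : Y)⁻¹ * P) = _
    rw [map_sum, Finset.sum_congr rfl (g := fun _ => LinearMap.trace ℂ V (p * P)), Finset.sum_const, Finset.card_univ,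
      ← Nat.card_eq_fintype_card, nsmul_eq_mul]
    intro l _
    rw [mul_assoc (ρ (l : Y) * p), ← hP.comm _ (L.inv_mem l.2), mul_assoc (ρ (l : Y)), LinearMap.trace_mul_comm,
      mul_assoc p, mul_assoc P, rho_inv_mul, mul_one]
  have hc0 : c ≠ 0 := by
    rintro rfl
    rw [hF, zero_smul, map_zero] at htr
    have h1 : LinearMap.trace ℂ V (p * P) ≠ 0 := by
      refine trace_idem ?_ h0
      rw [mul_assoc, ← mul_assoc P p P, ← hc, mul_assoc p P P, hP.idem, ← mul_assoc, hp]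
    exact mul_ne_zero (card_ne L) h1 htr.symm
  have htF : LinearMap.trace ℂ V (ρ t * F) = 0 := by
    change LinearMap.trace ℂ V (ρ t * ∑ l : L, ρ l * p * ρ (l : Y)⁻¹ * P) = 0
    rw [Finset.mul_sum, map_sum]
    refine Finset.sum_eq_zero fun l _ => ?_
    have h1 := hz l l.2
    have h2 : ρ ((l : Y)⁻¹ * t * l) = ρ (l : Y)⁻¹ * ρ t * ρ l := by rw [map_mul, map_mul]
    have h3 : ρ t * (ρ (l : Y) * p * ρ (l : Y)⁻¹ * P) = (ρ t * ρ (l : Y) * (p * P)) * ρ (l : Y)⁻¹ := by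
      rw [mul_assoc (ρ (l : Y) * p), ← hP.comm _ (L.inv_mem l.2)]
      simp only [mul_assoc]
    have h4 : ρ (l : Y)⁻¹ * (ρ t * ρ (l : Y) * (p * P)) = ρ ((l : Y)⁻¹ * t * l) * (p * P) * p := by
      rw [h2, mul_assoc _ (p * P) p, mul_assoc p P p, ← hc, ← mul_assoc p p P, hp]
      simp only [mul_assoc]
    rw [h3, LinearMap.trace_mul_comm, h4, LinearMap.trace_mul_comm, ← mul_assoc, h1, map_zero]
  rw [hF, mul_smul_comm, map_smul, smul_eq_mul] at htF
  exact (mul_eq_zero.1 htF).resolve_left hc0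

end Cfsg.Agent.H631.VZ
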