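import Mathlib
import Cfsg.Agent.H631.VZ.Abs
import Cfsg.Agent.H631.Kaw.Inj
import Cfsg.Agent.H985.VZ.Defs

/-!
# S4842: Harish-Chandra support in a root group datum (helper631)

* `mackey` : `av V_{K'} (ρ n_w v) = av V_{K'} (ρ n_w (av V_{K₁} v))` for `v ∈ V^{V_K}`, `w` doubly minimal,
  `K₁ = K ∩ w⁻¹ K'`;
* `exists_mackey`, `exists_of_cusp` : irreducible `L_J`-submodules;
* `exists_of_support`, `VU_ne_bot`.
-/

set_option autoImplicit false
set_option linter.unusedSectionVars false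

open Cfsg

namespace Cfsg.Agent.H631.VZ

open CoxeterSystem Cfsg.Agent.ChevalleyStructure.CoxeterGeom Cfsg.Agent.Tits.Roots Cfsg.Agent.Tits.Core
  Cfsg.Agent.Tits.Exchange Cfsg.Agent.Nodes.Reps Cfsg.Agent.Nodes.BNOf Cfsg.Agent.Nodes.StabComb
  Cfsg.Agent.Nodes.Bruhat Cfsg.Agent.Nodes.OppDec Cfsg.Agent.Nodes.LeviDec Module Cfsg.Agent.H985.VZ
  Cfsg.Agent.H631.Kaw

universe u v

variable {I W : Type*} {Y : Type u} [Fintype I] [DecidableEq I] [Group W] [Group Y] {M : CoxeterMatrix I}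

section comb

variable (cs : CoxeterSystem M W) {A : I → I → ℤ} (h : IsCartan M A)

/-- double coset representatives -/
theorem exists_double₂ (K' K : Set I) (w : W) : ∃ x₁ ∈ WJ cs K', ∃ x₂ ∈ WJ cs K, ∃ y, w = x₁ * y * x₂ ∧
    (∀ j ∈ K, 0 ≤ rep cs h y (sr j)) ∧ ∀ j ∈ K', 0 ≤ rep cs h y⁻¹ (sr j) := by
  obtain ⟨x₁, hx₁, v, e, hv⟩ := exists_isMinL cs K' w
  obtain ⟨y, hy, x₂, hx₂, e'⟩ := exists_isMinR cs K v
  refine ⟨x₁, hx₁, x₂, hx₂, y, by rw [e, e', mul_assoc], fun j hj => ?_, fun j hj => ?_⟩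
  · exact nonneg_of_lt cs h y j ((isMinR_iff cs).1 hy j hj)
  · refine nonneg_of_lt cs h y⁻¹ j ?_
    have h1 := hv _ (simple_mem_WJ cs hj)
    rw [e', ← mul_assoc, cs.length_simple] at h1
    have h2 := cs.length_mul_le (cs.simple j * y) x₂
    have h3 := hy x₂ hx₂
    rw [← cs.length_inv y, ← cs.length_inv (cs.simple j * y), mul_inv_rev, inv_simple] at *
    omega

/-- the part of `K` mapped by `w` into the span of `K'` -/
def Kw (w : W) (K' K : Set I) : Set I := {k | k ∈ K ∧ rep cs h w (sr k) ∈ RootsJ cs h K'}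

variable {cs h}

theorem Kw_subset {w : W} {K' K : Set I} : Kw cs h w K' K ⊆ K := fun _ hk => hk.1

theorem simple_of_Kw {w : W} {K' K : Set I} (hw : ∀ j ∈ K, 0 ≤ rep cs h w (sr j))
    (hw' : ∀ j ∈ K', 0 ≤ rep cs h w⁻¹ (sr j)) {k : I} (hk : k ∈ Kw cs h w K' K) :
    ∃ k' ∈ K', rep cs h w (sr k) = sr k' :=
  simple_of (J := K') (w := w⁻¹) hw' (x := rep cs h w (sr k)) (k := k)
    ⟨(isRoot_sr cs h k).act w, hw k hk.1, hk.2.2⟩ (by rw [rep_inv_apply])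

end comb

section rep

variable {cs : CoxeterSystem M W} {A : I → I → ℤ} {h : IsCartan M A} {p : ℕ} {T : Subgroup Y} {n : I → Y}
  {X : (I → ℤ) → Subgroup Y} {V : Type v} [AddCommGroup V] [Module ℂ V]
  {ρ : Representation ℂ Y V}

/-- the parabolic subgroup acts on `N ≤ V^{V_K}` -/
theorem Stb.PJ (R : RGD cs h p T n X) {K : Set I} {N : Submodule ℂ V} (hN : Stb ρ (LJ cs h T X K) N)
    (hf : N ≤ fx ρ (VJ cs h X K)) : Stb ρ (PJ cs h T X K) N := by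
  intro g hg v hv
  obtain ⟨l, hl, u, hu, rfl⟩ := (mem_PJ R).1 hg
  rw [map_mul, Module.End.mul_apply, hf hv u hu]
  exact hN l hl v hv

theorem mem_fx_Kw (R : RGD cs h p T n X) {K K₁ : Set I} {N : Submodule ℂ V}
    (hf : N ≤ fx ρ (VJ cs h X K)) {v : V} (hv : v ∈ N) {u : Y} (hu : u ∈ VJ cs h X K₁) :
    ∃ l ∈ RGD.Sup X (Mid cs h K₁ K), ρ u v = ρ l v := by
  obtain ⟨l, hl, u', hu', e⟩ := mem_VJ_split R (T' := K) hu
  refine ⟨l, hl, ?_⟩
  rw [e, map_mul, Module.End.mul_apply, hf hv u' hu']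

theorem av_mem_of_stb [Finite Y] (R : RGD cs h p T n X) {K K₁ : Set I} {N : Submodule ℂ V}
    (hN : Stb ρ (LJ cs h T X K) N) (hf : N ≤ fx ρ (VJ cs h X K)) {v : V} (hv : v ∈ N) :
    av ρ (VJ cs h X K₁) v ∈ N := by
  classical
  let _ : Fintype (VJ cs h X K₁) := Fintype.ofFinite _
  rw [av_apply]
  refine N.smul_mem _ (N.sum_mem fun u _ => ?_)
  obtain ⟨l, hl, e⟩ := mem_fx_Kw R hf hv u.2
  rw [e]
  exact hN l ((RGD.Sup_le fun x hx => X_le_LJ (PosJ_subset K hx.1)) hl) v hv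

/-- **the Mackey step** -/
theorem mackey [Finite Y] (R : RGD cs h p T n X) {w : W} {K' K : Set I} (hw : ∀ j ∈ K, 0 ≤ rep cs h w (sr j))
    {g : Y} (hg : Rp cs R.nsys w g) {v : V} (hv : v ∈ fx ρ (VJ cs h X K)) :
    av ρ (VJ cs h X K') (ρ g (av ρ (VJ cs h X (Kw cs h w K' K)) v)) = av ρ (VJ cs h X K') (ρ g v) := by
  classical
  let _ : Fintype (VJ cs h X (Kw cs h w K' K)) := Fintype.ofFinite _
  have key : ∀ u : VJ cs h X (Kw cs h w K' K), av ρ (VJ cs h X K') (ρ g (ρ u v)) = av ρ (VJ cs h X K') (ρ g v) := by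
    intro u
    obtain ⟨l, hl, e⟩ := mem_fx_Kw R (N := fx ρ (VJ cs h X K)) le_rfl hv u.2
    have h1 : g * l * g⁻¹ ∈ VJ cs h X K' := by
      refine conj_mem_Sup R hg (fun x hx => hx.2.1) (fun x hx => ?_) hl
      obtain ⟨-, -, k, hk, hk0⟩ := hx.2
      have hkK : k ∈ K := by
        by_contra hcon
        have := hx.1.2.2 k hcon
        omega
      exact rep_mem_NotJ hw hkK (fun h2 => hk ⟨hkK, h2⟩) hx.1 hk0
    have h2 : ρ g (ρ l v) = ρ (g * l * g⁻¹) (ρ g v) := by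
      rw [← Module.End.mul_apply, ← Module.End.mul_apply, ← map_mul, ← map_mul, inv_mul_cancel_right]
    rw [e, h2, av_rho ρ h1]
  rw [av_apply ρ (VJ cs h X (Kw cs h w K' K)), map_smul, map_smul, map_sum, map_sum,
    Finset.sum_congr rfl fun u _ => key u, Finset.sum_const,
    Finset.card_univ, ← Nat.card_eq_fintype_card, ← Nat.cast_smul_eq_nsmul ℂ, smul_smul, inv_mul_cancel₀ (card_ne _),
    one_smul]

theorem av_rho_of_mem_PJ [Finite Y] (R : RGD cs h p T n X) {K : Set I} {g : Y} (hg : g ∈ PJ cs h T X K) (v : V) :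
    av ρ (VJ cs h X K) (ρ g v) = ρ g (av ρ (VJ cs h X K) v) :=
  (rho_av_conj ρ (fun x => Subgroup.mem_normalizer_iff.1 (PJ_le_normalizer_VJ R K hg) x) v).symm

/-- `L_J ⊆ P_{K'} y P_K` with `y ∈ W_J` doubly minimal -/
theorem exists_dec [Finite W] (R : RGD cs h p T n X) {J K K' : Set I} (hK : K ⊆ J) (hK' : K' ⊆ J) {g : Y}
    (hg : g ∈ LJ cs h T X J) : ∃ a ∈ PJ cs h T X K', ∃ b ∈ PJ cs h T X K, ∃ y ∈ WJ cs J, ∃ k,
      Rp cs R.nsys y k ∧ g = a * k * b ∧ (∀ j ∈ K, 0 ≤ rep cs h y (sr j)) ∧ ∀ j ∈ K', 0 ≤ rep cs h y⁻¹ (sr j) := by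
  obtain ⟨w, hw, b₁, hb₁, k, hk, b₂, hb₂, rfl⟩ := (mem_LJ R).1 hg
  obtain ⟨x₁, hx₁, x₂, hx₂, y, rfl, hy, hy'⟩ := exists_double₂ cs h K' K w
  obtain ⟨k₁, hk₁⟩ := exists_rp cs R.nsys x₁
  obtain ⟨k₂, hk₂⟩ := exists_rp cs R.nsys x₂
  have h1 : Rp cs R.nsys y (k₁⁻¹ * k * k₂⁻¹) := by
    have := (hk₁.inv.mul hk).mul hk₂.inv
    have e : x₁⁻¹ * (x₁ * y * x₂) * x₂⁻¹ = y := by group
    rwa [e] at this
  have hyJ : y ∈ WJ cs J := by
    have e : y = x₁⁻¹ * (x₁ * y * x₂) * x₂⁻¹ := by group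
    rw [e]
    exact mul_mem (mul_mem (inv_mem (WJ_mono cs hK' hx₁)) hw) (inv_mem (WJ_mono cs hK hx₂))
  refine ⟨b₁ * k₁, mul_mem (B_le_PJ (BJ_le_B J hb₁)) (LJ_le_PJ (rp_mem_LJ R hx₁ hk₁)), k₂ * b₂,
    mul_mem (LJ_le_PJ (rp_mem_LJ R hx₂ hk₂)) (B_le_PJ (BJ_le_B J hb₂)), y, hyJ, _, h1, by group, hy, hy'⟩

/-- a nonzero `V_{K'}`-fixed vector in an irreducible `L_J`-module comes from every part of it -/
theorem exists_mackey [Finite Y] [Finite W] (R : RGD cs h p T n X) {J K K' : Set I} (hK : K ⊆ J) (hK' : K' ⊆ J)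
    {M N : Submodule ℂ V} (hM : Irr ρ (LJ cs h T X J) M) (hNM : N ≤ M) (hN : Stb ρ (LJ cs h T X K) N)
    (hf : N ≤ fx ρ (VJ cs h X K)) (hN0 : N ≠ ⊥) (h' : M ⊓ fx ρ (VJ cs h X K') ≠ ⊥) :
    ∃ w ∈ WJ cs J, ∃ g, Rp cs R.nsys w g ∧ (∀ j ∈ K, 0 ≤ rep cs h w (sr j)) ∧ (∀ j ∈ K', 0 ≤ rep cs h w⁻¹ (sr j)) ∧
      ∃ v ∈ N, av ρ (VJ cs h X (Kw cs h w K' K)) v ∈ N ∧
        av ρ (VJ cs h X K') (ρ g (av ρ (VJ cs h X (Kw cs h w K' K)) v)) ≠ 0 := by
  -- `M` is spanned by the translates of `N`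
  let S : Submodule ℂ V := Submodule.span ℂ {x | ∃ l ∈ LJ cs h T X J, ∃ v ∈ N, ρ l v = x}
  have hS : S = M := by
    refine hM.min S ?_ ?_ ?_
    · refine Submodule.span_le.2 ?_
      rintro _ ⟨l, hl, v, hv, rfl⟩
      exact hM.stb l hl v (hNM hv)
    · intro k hk v hv
      refine Submodule.span_induction (p := fun v _ => ρ k v ∈ S) ?_ ?_ ?_ ?_ hv
      · rintro _ ⟨l, hl, v, hv, rfl⟩
        refine Submodule.subset_span ⟨k * l, mul_mem hk hl, v, hv, ?_⟩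
        rw [map_mul, Module.End.mul_apply]
      · rw [map_zero]
        exact zero_mem _
      · intro x y _ _ hx hy
        rw [map_add]
        exact add_mem hx hy
      · intro c x _ hx
        rw [map_smul]
        exact S.smul_mem c hx
    · intro h1
      apply hN0
      rw [Submodule.eq_bot_iff]
      intro v hv
      have h2 : v ∈ S := Submodule.subset_span ⟨1, one_mem _, v, hv, by rw [map_one, Module.End.one_apply]⟩
      rw [h1, Submodule.mem_bot] at h2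
      exact h2
  obtain ⟨l, hl, v, hv, h1⟩ : ∃ l ∈ LJ cs h T X J, ∃ v ∈ N, av ρ (VJ cs h X K') (ρ l v) ≠ 0 := by
    by_contra hcon
    push Not at hcon
    apply h'
    rw [Submodule.eq_bot_iff]
    rintro v ⟨hv, hv'⟩
    have h2 : v ∈ S := by rw [hS]; exact hv
    have h3 : av ρ (VJ cs h X K') v = 0 := by
      refine Submodule.span_induction (p := fun v _ => av ρ (VJ cs h X K') v = 0) ?_ ?_ ?_ ?_ h2
      · rintro _ ⟨l, hl, v, hv, rfl⟩
        exact hcon l hl v hv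
      · rw [map_zero]
      · intro x y _ _ hx hy
        rw [map_add, hx, hy, add_zero]
      · intro c x _ hx
        rw [map_smul, hx, smul_zero]
    rwa [av_of_mem hv'] at h3
  obtain ⟨a, ha, b, hb, y, hy, k, hk, rfl, h2, h3⟩ := exists_dec R hK hK' hl
  refine ⟨y, hy, k, hk, h2, h3, ρ b v, hN.PJ R hf b hb v hv, av_mem_of_stb R hN hf (hN.PJ R hf b hb v hv), ?_⟩
  rw [mackey R h2 hk (hf (hN.PJ R hf b hb v hv))]
  intro h4
  apply h1
  rw [map_mul, map_mul, Module.End.mul_apply, Module.End.mul_apply, av_rho_of_mem_PJ R ha, h4, map_zero]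

/-- **the support, Levi form**: `N ≤ M` cuspidal for `L_K` -/
theorem exists_of_cusp [Finite Y] [Finite W] (R : RGD cs h p T n X) {J K K' : Set I} (hK : K ⊆ J) (hK' : K' ⊆ J)
    {M N : Submodule ℂ V} (hM : Irr ρ (LJ cs h T X J) M) (hNM : N ≤ M) (hN : Stb ρ (LJ cs h T X K) N)
    (hf : N ≤ fx ρ (VJ cs h X K)) (hN0 : N ≠ ⊥) (hmin : ∀ K₁ : Set I, K₁ ⊂ K → N ⊓ fx ρ (VJ cs h X K₁) = ⊥)
    (h' : M ⊓ fx ρ (VJ cs h X K') ≠ ⊥) :
    ∃ w ∈ WJ cs J, ∀ k ∈ K, ∃ k' ∈ K', rep cs h w (sr k) = sr k' := by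
  obtain ⟨w, hw, g, hg, h1, h2, v, hv, hv', h3⟩ := exists_mackey R hK hK' hM hNM hN hf hN0 h'
  refine ⟨w, hw, fun k hk => simple_of_Kw h1 h2 ?_⟩
  have h4 : Kw cs h w K' K = K := by
    by_contra hne
    have h5 : Kw cs h w K' K ⊂ K := lt_of_le_of_ne Kw_subset hne
    have h6 : av ρ (VJ cs h X (Kw cs h w K' K)) v ∈ N ⊓ fx ρ (VJ cs h X (Kw cs h w K' K)) := ⟨hv', av_mem _ _ _⟩
    rw [hmin _ h5, Submodule.mem_bot] at h6
    rw [h6, map_zero, map_zero] at h3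
    exact h3 rfl
  rw [h4]
  exact hk

/-- the whole space -/
theorem irr_top (hG : GG cs h T X = ⊤) (hρ : ρ.IsIrreducible) : Irr ρ (LJ cs h T X Set.univ) ⊤ := by
  have h0 : Nontrivial (Subrepresentation ρ) := hρ.toNontrivial
  refine ⟨fun _ _ _ _ => Submodule.mem_top, ?_, fun N _ hN hN0 => ?_⟩
  · intro h1
    obtain ⟨a, b, hab⟩ := h0.exists_pair_ne
    apply hab
    apply Subrepresentation.toSubmodule_injective
    have h2 : ∀ x : Submodule ℂ V, x = ⊥ := fun x => le_bot_iff.1 (by rw [← h1]; exact le_top)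
    rw [h2 a.toSubmodule, h2 b.toSubmodule]
  · rw [LJ_univ, hG] at hN
    rcases hρ.eq_bot_or_eq_top (⟨N, fun g v hv => hN g (Subgroup.mem_top g) v hv⟩ : Subrepresentation ρ) with h1 | h1
    · exact absurd (congrArg Subrepresentation.toSubmodule h1) hN0
    · exact congrArg Subrepresentation.toSubmodule h1

theorem stb_fx (R : RGD cs h p T n X) (K : Set I) : Stb ρ (LJ cs h T X K) (fx ρ (VJ cs h X K)) := by
  intro l hl v hv u hu
  have h1 : l⁻¹ * u * l ∈ VJ cs h X K := by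
    have := (Subgroup.mem_normalizer_iff.1 (inv_mem (LJ_le_normalizer_VJ R K hl)) u).1 hu
    rwa [inv_inv] at this
  have h2 : ρ u (ρ l v) = ρ l (ρ (l⁻¹ * u * l) v) := by
    rw [← Module.End.mul_apply, ← Module.End.mul_apply, ← map_mul, ← map_mul]
    congr 2
    group
  rw [h2, hv _ h1]

/-- the support of an irreducible representation, with a cuspidal part -/
theorem exists_of_cusp_top [Finite Y] [Finite W] (R : RGD cs h p T n X) (hG : GG cs h T X = ⊤) (hρ : ρ.IsIrreducible)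
    {K K' : Set I} {N : Submodule ℂ V} (hN : Stb ρ (LJ cs h T X K) N) (hf : N ≤ fx ρ (VJ cs h X K)) (hN0 : N ≠ ⊥)
    (hmin : ∀ K₁ : Set I, K₁ ⊂ K → N ⊓ fx ρ (VJ cs h X K₁) = ⊥) (h' : fx ρ (VJ cs h X K') ≠ ⊥) :
    ∃ w : W, ∀ k ∈ K, ∃ k' ∈ K', rep cs h w (sr k) = sr k' := by
  obtain ⟨w, -, hw⟩ := exists_of_cusp R (Set.subset_univ K) (Set.subset_univ K') (irr_top hG hρ) le_top hN hf hN0 hmin
    (by rwa [top_inf_eq])
  exact ⟨w, hw⟩

theorem exists_of_support [Finite Y] [Finite W] (R : RGD cs h p T n X) (hG : GG cs h T X = ⊤) (hρ : ρ.IsIrreducible)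
    {J K : Set I} (hJ : fx ρ (VJ cs h X J) ≠ ⊥) (hmin : ∀ J' : Set I, J' ⊂ J → fx ρ (VJ cs h X J') = ⊥)
    (hK : fx ρ (VJ cs h X K) ≠ ⊥) : ∃ w : W, ∀ j ∈ J, ∃ k ∈ K, rep cs h w (sr j) = sr k :=
  exists_of_cusp_top R hG hρ (stb_fx R J) le_rfl hJ (fun K₁ hK₁ => by rw [hmin K₁ hK₁, inf_bot_eq]) hK

theorem VJ_empty : VJ cs h X (∅ : Set I) = RGD.Sup X (RGD.Pos cs h) := by
  have h1 : NotJ cs h (∅ : Set I) = RGD.Pos cs h := by
    ext x
    constructor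
    · rintro ⟨h1, h2, -⟩
      exact ⟨h1, h2⟩
    · rintro ⟨h1, h2⟩
      rcases mem_PosJ_or_NotJ (∅ : Set I) h1 h2 with h3 | h3
      · exact absurd (funext fun k => h3.2.2 k (Set.notMem_empty k)) h1.ne_zero
      · exact h3
  unfold VJ
  rw [h1]

theorem VU_ne_bot [Finite Y] [Finite W] (R : RGD cs h p T n X) (hG : GG cs h T X = ⊤) (hρ : ρ.IsIrreducible)
    {a b : I} (hno : ∀ w : W, rep cs h w (sr a) ≠ sr b) (ha : fx ρ (VJ cs h X {a}) ≠ ⊥)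
    (hb : fx ρ (VJ cs h X {b}) ≠ ⊥) : VU cs h X ρ ≠ ⊥ := by
  intro h0
  obtain ⟨w, hw⟩ := exists_of_support R hG hρ ha (fun J' hJ' => by
    rw [Set.ssubset_singleton_iff.1 hJ', VJ_empty]
    exact h0) hb
  obtain ⟨k, hk, e⟩ := hw a rfl
  rw [Set.mem_singleton_iff.1 hk] at e
  exact hno w e

end rep

end Cfsg.Agent.H631.VZ
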