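import Mathlib
import Cfsg.Agent.H631.VZ.Supp

/-!
# S4842: the support seen by an elliptic element (helper631)

* `ell_support` : `t` elliptic in `L_J`, `χ(t) ≠ 0`: there is an irreducible `L_J`-submodule `M` of `V^{V_J}` with cuspidal
  support `K₀` and `x ∈ W_J` permuting the simple roots of `K₀`, in no `W_K` with `K₀ ⊆ K ⊂ J`;
* `assoc` : any two cuspidal supports in an irreducible representation are associate.
-/

set_option autoImplicit false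
set_option linter.unusedSectionVars false

open Cfsg

namespace Cfsg.Agent.H631.VZ

open CoxeterSystem Cfsg.Agent.ChevalleyStructure.CoxeterGeom Cfsg.Agent.Tits.Roots Cfsg.Agent.Tits.Core
  Cfsg.Agent.Tits.Exchange Cfsg.Agent.Nodes.Reps Cfsg.Agent.Nodes.BNOf Cfsg.Agent.Nodes.StabComb
  Cfsg.Agent.Nodes.Bruhat Cfsg.Agent.Nodes.OppDec Cfsg.Agent.Nodes.LeviDec Module Cfsg.Agent.H985.VZ
  Cfsg.Agent.H631.Kaw

universe u v

variable {I W : Type*} {Y : Type u} [Fintype I] [DecidableEq I] [Group W] [Group Y] {M : CoxeterMatrix I}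
  {cs : CoxeterSystem M W} {A : I → I → ℤ} {h : IsCartan M A} {p : ℕ} {T : Subgroup Y} {n : I → Y}
  {X : (I → ℤ) → Subgroup Y} {V : Type v} [AddCommGroup V] [Module ℂ V]
  {ρ : Representation ℂ Y V}

theorem PJ_mono (K K' : Set I) (hK : K ⊆ K') : PJ cs h T X K ≤ PJ cs h T X K' :=
  sup_le (le_trans (LJ_mono hK) LJ_le_PJ) (le_trans (VJ_le_B K) B_le_PJ)

/-- `av V_J` is an `L_J`-equivariant idempotent -/
theorem EI_av [Finite Y] (R : RGD cs h p T n X) (J : Set I) : EI ρ (LJ cs h T X J) (av ρ (VJ cs h X J)) := by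
  refine ⟨LinearMap.ext fun v => av_idem ρ _ v, fun l hl => LinearMap.ext fun v => ?_⟩
  exact av_rho_of_mem_PJ R (LJ_le_PJ hl) v

/-- an irreducible constituent of `V^{V_J}` seen by a free element -/
theorem Free.exists_irr [Finite Y] [FiniteDimensional ℂ V] (R : RGD cs h p T n X) {J : Set I} {t : Y}
    (ht : Free cs h T X J t) (hχ : ρ.character t ≠ 0) : ∃ Q : Module.End ℂ V, EI ρ (LJ cs h T X J) Q ∧
      Q * av ρ (VJ cs h X J) = Q ∧ av ρ (VJ cs h X J) * Q = Q ∧ Irr ρ (LJ cs h T X J) (LinearMap.range Q) ∧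
      LinearMap.trace ℂ V (ρ t * Q) ≠ 0 := by
  rw [ht.trace_eq R] at hχ
  exact exists_irr_proj (EI_av R J) hχ

/-- elements of `P_J` commute with an equivariant idempotent below `av V_J` -/
theorem comm_PJ [Finite Y] (R : RGD cs h p T n X) {J : Set I} {Q : Module.End ℂ V} (hQ : EI ρ (LJ cs h T X J) Q)
    (h1 : Q * av ρ (VJ cs h X J) = Q) (h2 : av ρ (VJ cs h X J) * Q = Q) {g : Y} (hg : g ∈ PJ cs h T X J) :
    Q * ρ g = ρ g * Q := by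
  obtain ⟨l, hl, u, hu, rfl⟩ := (mem_PJ R).1 hg
  have h3 : Q * ρ u = Q := by
    have h4 : av ρ (VJ cs h X J) * ρ u = av ρ (VJ cs h X J) := LinearMap.ext fun v => av_rho ρ hu v
    calc Q * ρ u = Q * (av ρ (VJ cs h X J) * ρ u) := by rw [← mul_assoc, h1]
      _ = Q := by rw [h4, h1]
  have h5 : ρ u * Q = Q := by
    have h4 : ρ u * av ρ (VJ cs h X J) = av ρ (VJ cs h X J) := LinearMap.ext fun v => rho_av ρ hu v
    calc ρ u * Q = (ρ u * av ρ (VJ cs h X J)) * Q := by rw [mul_assoc, h2]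
      _ = Q := by rw [h4, h2]
  rw [map_mul, mul_assoc, h5, ← mul_assoc, hQ.comm l hl, mul_assoc, h3]

theorem comm_av [Finite Y] {H : Subgroup Y} {Q : Module.End ℂ V} (hQ : ∀ g ∈ H, Q * ρ g = ρ g * Q) :
    av ρ H * Q = Q * av ρ H := by
  classical
  let _ : Fintype H := Fintype.ofFinite H
  rw [av_eq, smul_mul_assoc, mul_smul_comm, Finset.sum_mul, Finset.mul_sum]
  congr 1
  exact Finset.sum_congr rfl fun g _ => (hQ g g.2).symm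

/-- a minimal support -/
theorem exists_min_support {S : Submodule ℂ V} {J : Set I} (h0 : S ⊓ fx ρ (VJ cs h X J) ≠ ⊥) :
    ∃ K₀ ⊆ J, S ⊓ fx ρ (VJ cs h X K₀) ≠ ⊥ ∧ ∀ K₁ : Set I, K₁ ⊂ K₀ → S ⊓ fx ρ (VJ cs h X K₁) = ⊥ := by
  classical
  have hfin : {K : Set I | K ⊆ J ∧ S ⊓ fx ρ (VJ cs h X K) ≠ ⊥}.Finite := Set.toFinite _
  obtain ⟨K₀, hK₀⟩ := hfin.exists_minimal ⟨J, subset_rfl, h0⟩
  refine ⟨K₀, hK₀.prop.1, hK₀.prop.2, fun K₁ hK₁ => ?_⟩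
  by_contra h1
  exact hK₁.2 (hK₀.le_of_le ⟨hK₁.1.trans hK₀.prop.1, h1⟩ hK₁.1)

/-- **(C)** -/
theorem ell_support [Finite Y] [Finite W] [FiniteDimensional ℂ V] (R : RGD cs h p T n X) {J : Set I} {t : Y}
    (ht : Ell cs h T X J t) (hχ : ρ.character t ≠ 0) :
    ∃ M : Submodule ℂ V, M ≤ fx ρ (VJ cs h X J) ∧ Irr ρ (LJ cs h T X J) M ∧ ∃ K₀ ⊆ J, M ⊓ fx ρ (VJ cs h X K₀) ≠ ⊥ ∧
      (∀ K₁ : Set I, K₁ ⊂ K₀ → M ⊓ fx ρ (VJ cs h X K₁) = ⊥) ∧ ∃ x ∈ WJ cs J,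
        (∀ k ∈ K₀, ∃ k' ∈ K₀, rep cs h x (sr k) = sr k') ∧ ∀ K : Set I, K₀ ⊆ K → K ⊂ J → x ∉ WJ cs K := by
  obtain ⟨Q, hQ, hQ1, hQ2, hirr, htr⟩ := Free.exists_irr R ht.toFree hχ
  have hle : LinearMap.range Q ≤ fx ρ (VJ cs h X J) := by
    rintro _ ⟨v, rfl⟩
    rw [← hQ2]
    exact av_mem ρ _ _
  obtain ⟨K₀, hK₀, h1, hmin⟩ := exists_min_support (ρ := ρ) (cs := cs) (h := h) (X := X) (S := LinearMap.range Q) (J := J)
    (by rw [inf_eq_left.2 hle]; exact hirr.ne)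
  refine ⟨LinearMap.range Q, hle, hirr, K₀, hK₀, h1, hmin, ?_⟩
  set N : Submodule ℂ V := LinearMap.range Q ⊓ fx ρ (VJ cs h X K₀) with hNdef
  have hNf : N ≤ fx ρ (VJ cs h X K₀) := inf_le_right
  have hN : Stb ρ (LJ cs h T X K₀) N := fun l hl v hv =>
    ⟨hirr.stb l (LJ_mono hK₀ hl) v hv.1, stb_fx R K₀ l hl v hv.2⟩
  let e : Module.End ℂ V := av ρ (VJ cs h X K₀)
  have he : e * e = e := LinearMap.ext fun v => av_idem ρ _ v
  have heQ : e * Q = Q * e := comm_av fun g hg => comm_PJ R hQ hQ1 hQ2 (B_le_PJ (VJ_le_B K₀ hg))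
  have heN : ∀ v, (e * Q) v ∈ N := by
    intro v
    refine ⟨?_, av_mem ρ _ _⟩
    rw [heQ]
    exact ⟨_, rfl⟩
  have he0 : e * Q ≠ 0 := by
    intro h2
    apply h1
    rw [Submodule.eq_bot_iff]
    rintro v ⟨hv, hv'⟩
    have h3 : (e * Q) v = v := by
      rw [Module.End.mul_apply, hQ.apply_of_mem hv]
      exact av_of_mem hv'
    rw [← h3, h2, LinearMap.zero_apply]
  -- some conjugate of `t` is seen by `e`
  obtain ⟨l, hl, h2⟩ : ∃ l ∈ LJ cs h T X J, e * ρ (l⁻¹ * t * l) * (e * Q) ≠ 0 := by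
    by_contra hcon
    push Not at hcon
    exact htr (trace_eq_zero hQ hirr he heQ he0 hcon)
  obtain ⟨v, h3⟩ : ∃ v, (e * ρ (l⁻¹ * t * l) * (e * Q)) v ≠ 0 := by
    by_contra hcon
    push Not at hcon
    exact h2 (LinearMap.ext hcon)
  rw [Module.End.mul_apply, Module.End.mul_apply] at h3
  obtain ⟨a, ha, b, hb, y, hy, k, hk, hg, hy1, hy2⟩ := exists_dec R hK₀ hK₀
    (mul_mem (mul_mem (inv_mem hl) ht.toFree.mem) hl)
  have h4 : ρ b ((e * Q) v) ∈ N := hN.PJ R hNf b hb _ (heN v)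
  have h5 : Kw cs h y K₀ K₀ = K₀ := by
    by_contra hne
    have h6 : Kw cs h y K₀ K₀ ⊂ K₀ := lt_of_le_of_ne Kw_subset hne
    have h7 : av ρ (VJ cs h X (Kw cs h y K₀ K₀)) (ρ b ((e * Q) v)) ∈ LinearMap.range Q ⊓
        fx ρ (VJ cs h X (Kw cs h y K₀ K₀)) := ⟨(av_mem_of_stb R hN hNf h4).1, av_mem _ _ _⟩
    rw [hmin _ h6, Submodule.mem_bot] at h7
    apply h3
    rw [hg, map_mul, map_mul, Module.End.mul_apply, Module.End.mul_apply]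
    change av ρ (VJ cs h X K₀) (ρ a (ρ k (ρ b ((e * Q) v)))) = 0
    rw [av_rho_of_mem_PJ R ha, ← mackey R hy1 hk (hNf h4), h7, map_zero, map_zero, map_zero]
  refine ⟨y, hy, fun k' hk' => simple_of_Kw hy1 hy2 (by rw [h5]; exact hk'), fun K hK hKJ hyK => ?_⟩
  refine ht.ell K hKJ l⁻¹ (inv_mem hl) ?_
  rw [inv_inv, hg]
  exact mul_mem (mul_mem (PJ_mono K₀ K hK ha) (LJ_le_PJ (rp_mem_LJ R hyK hk))) (PJ_mono K₀ K hK hb)

/-- **(D)** any two cuspidal supports are associate -/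
theorem assoc [Finite Y] [Finite W] (R : RGD cs h p T n X) (hG : GG cs h T X = ⊤) (hρ : ρ.IsIrreducible)
    {K₀ K₁ : Set I} {N₀ N₁ : Submodule ℂ V} (hN : Stb ρ (LJ cs h T X K₀) N₀) (hf : N₀ ≤ fx ρ (VJ cs h X K₀))
    (hN0 : N₀ ≠ ⊥) (hmin : ∀ K : Set I, K ⊂ K₀ → N₀ ⊓ fx ρ (VJ cs h X K) = ⊥)
    (hN' : Stb ρ (LJ cs h T X K₁) N₁) (hf' : N₁ ≤ fx ρ (VJ cs h X K₁))
    (hN0' : N₁ ≠ ⊥) (hmin' : ∀ K : Set I, K ⊂ K₁ → N₁ ⊓ fx ρ (VJ cs h X K) = ⊥) :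
    ∃ w : W, (∀ k ∈ K₀, ∃ k' ∈ K₁, rep cs h w (sr k) = sr k') ∧ ∀ k' ∈ K₁, ∃ k ∈ K₀, rep cs h w (sr k) = sr k' := by
  classical
  have h0 : fx ρ (VJ cs h X K₀) ≠ ⊥ := fun h1 => hN0 (le_bot_iff.1 (by rw [← h1]; exact hf))
  have h1 : fx ρ (VJ cs h X K₁) ≠ ⊥ := fun h1 => hN0' (le_bot_iff.1 (by rw [← h1]; exact hf'))
  obtain ⟨w, hw⟩ := exists_of_cusp_top R hG hρ hN hf hN0 hmin h1
  obtain ⟨w', hw'⟩ := exists_of_cusp_top R hG hρ hN' hf' hN0' hmin' h0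
  refine ⟨w, hw, ?_⟩
  choose! f hf1 hf2 using hw
  choose! f' hf1' hf2' using hw'
  have hinj : Set.InjOn f K₀ := by
    intro i hi j hj hij
    have h2 : rep cs h w (sr i) = rep cs h w (sr j) := by rw [hf2 i hi, hf2 j hj, hij]
    exact sr_inj (rep_injective_apply cs h w h2)
  have hinj' : Set.InjOn f' K₁ := by
    intro i hi j hj hij
    have h2 : rep cs h w' (sr i) = rep cs h w' (sr j) := by rw [hf2' i hi, hf2' j hj, hij]
    exact sr_inj (rep_injective_apply cs h w' h2)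
  have hc1 : K₀.ncard ≤ K₁.ncard := Set.ncard_le_ncard_of_injOn f hf1 hinj (Set.toFinite K₁)
  have hc2 : K₁.ncard ≤ K₀.ncard := Set.ncard_le_ncard_of_injOn f' hf1' hinj' (Set.toFinite K₀)
  intro k' hk'
  have h3 : f '' K₀ = K₁ := by
    refine Set.eq_of_subset_of_ncard_le ?_ ?_ (Set.toFinite K₁)
    · rintro _ ⟨i, hi, rfl⟩
      exact hf1 i hi
    · rw [hinj.ncard_image]
      exact hc2
  rw [← h3] at hk'
  obtain ⟨i, hi, rfl⟩ := hk'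
  exact ⟨i, hi, hf2 i hi⟩

/-- **(D)** for two irreducible submodules as in `ell_support` -/
theorem assoc' [Finite Y] [Finite W] (R : RGD cs h p T n X) (hG : GG cs h T X = ⊤) (hρ : ρ.IsIrreducible)
    {J J' K₀ K₁ : Set I} {M₀ M₁ : Submodule ℂ V} (hM : Irr ρ (LJ cs h T X J) M₀) (hK₀ : K₀ ⊆ J)
    (h0 : M₀ ⊓ fx ρ (VJ cs h X K₀) ≠ ⊥) (hmin : ∀ K : Set I, K ⊂ K₀ → M₀ ⊓ fx ρ (VJ cs h X K) = ⊥)
    (hM' : Irr ρ (LJ cs h T X J') M₁) (hK₁ : K₁ ⊆ J') (h1 : M₁ ⊓ fx ρ (VJ cs h X K₁) ≠ ⊥)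
    (hmin' : ∀ K : Set I, K ⊂ K₁ → M₁ ⊓ fx ρ (VJ cs h X K) = ⊥) :
    ∃ w : W, (∀ k ∈ K₀, ∃ k' ∈ K₁, rep cs h w (sr k) = sr k') ∧ ∀ k' ∈ K₁, ∃ k ∈ K₀, rep cs h w (sr k) = sr k' := by
  refine assoc R hG hρ (N₀ := M₀ ⊓ fx ρ (VJ cs h X K₀)) (N₁ := M₁ ⊓ fx ρ (VJ cs h X K₁)) ?_ inf_le_right h0 ?_ ?_
    inf_le_right h1 ?_
  · exact fun l hl v hv => ⟨hM.stb l (LJ_mono hK₀ hl) v hv.1, stb_fx R K₀ l hl v hv.2⟩
  · intro K hK
    rw [eq_bot_iff, ← hmin K hK]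
    exact inf_le_inf_right _ inf_le_left
  · exact fun l hl v hv => ⟨hM'.stb l (LJ_mono hK₁ hl) v hv.1, stb_fx R K₁ l hl v hv.2⟩
  · intro K hK
    rw [eq_bot_iff, ← hmin' K hK]
    exact inf_le_inf_right _ inf_le_left

/-- the support of `ell_support` is contained (up to conjugation) in every `K'` with `V^{V_{K'}} ≠ 0` -/
theorem support_le [Finite Y] [Finite W] (R : RGD cs h p T n X) (hG : GG cs h T X = ⊤) (hρ : ρ.IsIrreducible)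
    {J K₀ K' : Set I} {M₀ : Submodule ℂ V} (hM : Irr ρ (LJ cs h T X J) M₀) (hK₀ : K₀ ⊆ J)
    (h0 : M₀ ⊓ fx ρ (VJ cs h X K₀) ≠ ⊥) (hmin : ∀ K : Set I, K ⊂ K₀ → M₀ ⊓ fx ρ (VJ cs h X K) = ⊥)
    (h' : fx ρ (VJ cs h X K') ≠ ⊥) : ∃ w : W, ∀ k ∈ K₀, ∃ k' ∈ K', rep cs h w (sr k) = sr k' := by
  refine exists_of_cusp_top R hG hρ (N := M₀ ⊓ fx ρ (VJ cs h X K₀)) ?_ inf_le_right h0 ?_ h'
  · exact fun l hl v hv => ⟨hM.stb l (LJ_mono hK₀ hl) v hv.1, stb_fx R K₀ l hl v hv.2⟩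
  · intro K hK
    rw [eq_bot_iff, ← hmin K hK]
    exact inf_le_inf_right _ inf_le_left

end Cfsg.Agent.H631.VZ
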